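import Mathlib
import Groth.Agent.GeomRegInsepLib.Chart
import Groth.Agent.S2690
import Groth.Agent.S4677
import Groth.Agent.NorLocLib.SmoothLocal
import Groth.Agent.GeomRedFibLib.Normal

set_option autoImplicit false
universe u

open TensorProduct CategoryTheory AlgebraicGeometry

namespace NormalInsepLib

/-- Fields are normal rings. -/
theorem isNormalRing_field (K : Type u) [Field K] : EGA4.IsNormalRing K := fun p _ =>
  ⟨IsLocalization.isDomain_localization p.primeCompl_le_nonZeroDivisors,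
    isIntegrallyClosed_of_isLocalization _ p.primeCompl p.primeCompl_le_nonZeroDivisors⟩

/-- If `k' ⊗ A` is normal for all finite purely inseparable `k'/k`, so is `K ⊗ A` for every field
extension `K/k`. -/
theorem isNormalRing_tensor {k : Type u} [Field k] (A : Type u) [CommRing A] [Algebra k A]
    (h : ∀ (k' : Type u) [Field k'] [Algebra k k'] [FiniteDimensional k k'] [IsPurelyInseparable k k'],
      EGA4.IsNormalRing (k' ⊗[k] A))
    (K : Type u) [Field K] [Algebra k K] : EGA4.IsNormalRing (K ⊗[k] A) := by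
  have hgeom : EGA4.IsGeomNormal k A := by
    intro F _ _ hF
    haveI := hF
    obtain ⟨k', _, _, _, _, hk'⟩ := Groth.Agent.S4677.result (k := k) (K := F)
    obtain ⟨m, hm⟩ := Ideal.exists_maximal (k' ⊗[k] F)
    haveI := hm
    letI := Ideal.Quotient.field m
    haveI : Algebra.IsGeometricallyReduced k' ((k' ⊗[k] F) ⧸ m) := hk' m hm
    let L := (k' ⊗[k] F) ⧸ m
    have hB : EGA4.IsNormalRing (L ⊗[k'] (k' ⊗[k] A)) :=
      Groth.Agent.S2690.result k' (k' ⊗[k] A) L (h k')
    let φ : F →ₐ[k] (k' ⊗[k] F) ⧸ m :=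
      (Ideal.Quotient.mkₐ k m).comp (Algebra.TensorProduct.includeRight : F →ₐ[k] k' ⊗[k] F)
    letI : Algebra F ((k' ⊗[k] F) ⧸ m) := φ.toRingHom.toAlgebra
    haveI : IsScalarTower k F ((k' ⊗[k] F) ⧸ m) := IsScalarTower.of_algebraMap_eq fun r => (φ.commutes r).symm
    let e₁ : L ⊗[k'] (k' ⊗[k] A) ≃+* L ⊗[k] A :=
      (Algebra.TensorProduct.cancelBaseChange k k' k' L A).toRingEquiv
    let e₂ : (F ⊗[k] A) ⊗[F] L ≃+* L ⊗[k] A :=
      (Algebra.TensorProduct.comm F (F ⊗[k] A) _).toRingEquiv.trans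
        (Algebra.TensorProduct.cancelBaseChange k F F L A).toRingEquiv
    exact NorLocLib.isNormalRing_of_faithfullyFlat_general (F ⊗[k] A) ((F ⊗[k] A) ⊗[F] L)
      (GeomRedFibLib.isNormalRing_of_ringEquiv _ _ (e₁.trans e₂.symm) hB)
  exact GeomRedFibLib.isNormalRing_of_ringEquiv _ _ (Algebra.TensorProduct.comm k A K).toRingEquiv
    (Groth.Agent.S9413.result k A K hgeom (isNormalRing_field K))

/-- Normality of `X_K` on the affine charts. -/
theorem isNormalRing_chart {k : Type u} [Field k] {X : Scheme.{u}} (f : X ⟶ Spec (CommRingCat.of k))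
    (K : Type u) [Field K] [Algebra k K] (V : X.Opens) (hV : IsAffineOpen V)
    (h : Pi1.IsNormalScheme (Limits.pullback f (Spec.map (CommRingCat.ofHom (algebraMap k K))))) :
    letI : Algebra k Γ(X, V) := (Spec.preimage (hV.fromSpec ≫ f)).hom.toAlgebra
    EGA4.IsNormalRing (K ⊗[k] Γ(X, V)) := by
  letI : Algebra k Γ(X, V) := (Spec.preimage (hV.fromSpec ≫ f)).hom.toAlgebra
  obtain ⟨θ, hθ, -⟩ := GeomRegInsepLib.exists_chart f V hV K
  haveI := hθ
  intro p hp
  obtain ⟨e⟩ := GeomRegInsepLib.nonempty_stalk_equiv θ ⟨p, hp⟩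
  obtain ⟨h1, h2⟩ := h (θ ⟨p, hp⟩)
  exact ⟨e.toMulEquiv.isDomain_iff.mp h1, IsIntegrallyClosed.of_equiv e⟩

/-- Conversely, normal charts give a normal `X_K`. -/
theorem isNormalScheme_of_charts {k : Type u} [Field k] {X : Scheme.{u}} (f : X ⟶ Spec (CommRingCat.of k))
    (K : Type u) [Field K] [Algebra k K]
    (h : ∀ (V : X.Opens) (hV : IsAffineOpen V),
      letI : Algebra k Γ(X, V) := (Spec.preimage (hV.fromSpec ≫ f)).hom.toAlgebra
      EGA4.IsNormalRing (K ⊗[k] Γ(X, V))) :
    Pi1.IsNormalScheme (Limits.pullback f (Spec.map (CommRingCat.ofHom (algebraMap k K)))) := by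
  intro x'
  obtain ⟨_, ⟨V, hV, rfl⟩, hxV, -⟩ := X.isBasis_affineOpens.exists_subset_of_mem_open
    (Set.mem_univ (Limits.pullback.fst f (Spec.map (CommRingCat.ofHom (algebraMap k K))) x')) isOpen_univ
  letI : Algebra k Γ(X, V) := (Spec.preimage (hV.fromSpec ≫ f)).hom.toAlgebra
  obtain ⟨θ, hθ, hrange⟩ := GeomRegInsepLib.exists_chart f V hV K
  haveI := hθ
  obtain ⟨z, rfl⟩ : x' ∈ Set.range θ := by rw [hrange]; exact hxV
  obtain ⟨e⟩ := GeomRegInsepLib.nonempty_stalk_equiv θ z
  obtain ⟨h1, h2⟩ := h V hV z.asIdeal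
  exact ⟨e.toMulEquiv.isDomain_iff.mpr h1, IsIntegrallyClosed.of_equiv e.symm⟩

/-- A geometrically reduced `Spec K → Spec k` gives a geometrically reduced algebra. -/
theorem isGeometricallyReduced_of_spec (k K : Type u) [Field k] [CommRing K] [Algebra k K]
    [GeometricallyReduced (Spec.map (CommRingCat.ofHom (algebraMap k K)))] :
    Algebra.IsGeometricallyReduced k K := by
  rw [Algebra.isGeometricallyReduced_field_iff]
  have hsq := (isPullback_SpecMap_of_isPushout _ _ _ _
    (CommRingCat.isPushout_tensorProduct k (AlgebraicClosure k) K)).flip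
  haveI : IsReduced (Spec (CommRingCat.of (AlgebraicClosure k ⊗[k] K))) :=
    (GeometricallyReduced.geometrically_isReduced
      (f := Spec.map (CommRingCat.ofHom (algebraMap k K)))) _ _ _ hsq
  exact (affine_isReduced_iff (CommRingCat.of (AlgebraicClosure k ⊗[k] K))).mp inferInstance

end NormalInsepLib
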